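import Mathlib.RingTheory.LocalRing.Module
import Mathlib.RingTheory.LocalRing.ResidueField.Ideal
import Mathlib.RingTheory.Localization.Integer
import Mathlib.RingTheory.Finiteness.Projective
import Mathlib.Algebra.Module.FinitePresentation
import Mathlib.RingTheory.LocalProperties.Projective
import Mathlib.LinearAlgebra.Matrix.Adjugate
import Mathlib.LinearAlgebra.Basis.VectorSpace

/-!
# Cokernels of maps of projective modules, split near a point
-/

open TensorProduct

namespace Groth.Agent.FibreSplit

universe u v w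

variable {R : Type u} [CommRing R] {M : Type v} {N : Type w} [AddCommGroup M] [Module R M]
  [AddCommGroup N] [Module R N] (d : M →ₗ[R] N) (p : Ideal R) [p.IsPrime]

/-- every element of the residue field becomes integral after multiplication by a common element -/
theorem exists_common_denominator {ι : Type*} [Finite ι] (z : ι → p.ResidueField) :
    ∃ b ∉ p, ∀ i, ∃ a : R, algebraMap R p.ResidueField a = algebraMap R p.ResidueField b * z i := by
  obtain ⟨⟨c, hc⟩, h⟩ := IsLocalization.exist_integer_multiples_of_finite (nonZeroDivisors (R ⧸ p)) z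
  obtain ⟨b, rfl⟩ := Ideal.Quotient.mk_surjective c
  refine ⟨b, fun hb => nonZeroDivisors.ne_zero hc (Ideal.Quotient.eq_zero_iff_mem.2 hb), fun i => ?_⟩
  obtain ⟨a', ha'⟩ := h i
  obtain ⟨a, rfl⟩ := Ideal.Quotient.mk_surjective a'
  refine ⟨a, ?_⟩
  rw [IsScalarTower.algebraMap_apply R (R ⧸ p) p.ResidueField, IsScalarTower.algebraMap_apply R (R ⧸ p) p.ResidueField b]
  exact ha'.trans (Algebra.smul_def _ _)

/-- `c` splits the cokernel of `d`. -/
def SplitsAt (c : R) : Prop :=
  ∃ s : (N ⧸ LinearMap.range d) →ₗ[R] N, (LinearMap.range d).mkQ ∘ₗ s = c • LinearMap.id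

theorem ker_le_of_splitsAt [Module.Projective R N] {c : R} (hc : c ∉ p) (hs : SplitsAt d c) :
    LinearMap.ker (d.baseChange p.ResidueField) ≤
      LinearMap.range ((LinearMap.ker d).subtype.baseChange p.ResidueField) := by
  obtain ⟨s, hs⟩ := hs
  obtain ⟨t, ht⟩ := Module.projective_lifting_property d.rangeRestrict
    ((c • LinearMap.id - s ∘ₗ (LinearMap.range d).mkQ).codRestrict (LinearMap.range d) fun n => by
      rw [← Submodule.Quotient.mk_eq_zero]
      have := LinearMap.congr_fun hs (Submodule.Quotient.mk n)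
      simp only [LinearMap.comp_apply, Submodule.mkQ_apply, LinearMap.smul_apply, LinearMap.id_apply] at this
      simp [this]) d.surjective_rangeRestrict
  have ht' : ∀ n, d (t n) = c • n - s ((LinearMap.range d).mkQ n) := fun n =>
    congrArg Subtype.val (LinearMap.congr_fun ht n)
  let π : M →ₗ[R] LinearMap.ker d := (c • LinearMap.id - t ∘ₗ d).codRestrict _ fun m => by
    simp [LinearMap.mem_ker, ht', show (LinearMap.range d).mkQ (d m) = 0 from (Submodule.Quotient.mk_eq_zero _).2 ⟨m, rfl⟩]
  intro z hz
  have key : algebraMap R p.ResidueField c • z =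
      (LinearMap.ker d).subtype.baseChange p.ResidueField (π.baseChange p.ResidueField z) +
        t.baseChange p.ResidueField (d.baseChange p.ResidueField z) := by
    clear hz
    induction z using TensorProduct.induction_on with
    | zero => simp
    | tmul a m => simp [π, tmul_sub]
    | add a b ha hb => simp only [smul_add, map_add, ha, hb]; abel
  rw [LinearMap.mem_ker] at hz
  rw [hz, map_zero, add_zero] at key
  have hu : algebraMap R p.ResidueField c ≠ 0 := fun h => hc (Ideal.algebraMap_residueField_eq_zero.1 h)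
  rw [← inv_smul_smul₀ hu z, key]
  exact Submodule.smul_mem _ _ ⟨_, rfl⟩

theorem exists_splitsAt_of_ker_le [Module.Finite R M] [Module.Finite R N] [Module.Projective R N]
    (h : LinearMap.ker (d.baseChange p.ResidueField) ≤
      LinearMap.range ((LinearMap.ker d).subtype.baseChange p.ResidueField)) :
    ∃ c ∉ p, SplitsAt d c := by
  classical
  let k := p.ResidueField
  obtain ⟨n, q, ι₀, hq, -, hqι⟩ := Module.Finite.exists_comp_eq_id_of_projective R N
  let ybar : M → k ⊗[R] N := fun m => (1 : k) ⊗ₜ[R] d m
  obtain ⟨σ, x, -, hspan, hli⟩ := exists_linearIndependent' k ybar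
  haveI : Finite σ := hli.finite
  letI := Fintype.ofFinite σ
  -- dual functionals
  have hL : ∀ j : σ, ∃ L : (k ⊗[R] N) →ₗ[k] k, ∀ i, L (ybar (x i)) = if i = j then 1 else 0 := by
    intro j
    obtain ⟨L, hL⟩ := LinearMap.exists_extend ((Module.Basis.span hli).coord j)
    refine ⟨L, fun i => ?_⟩
    have := LinearMap.congr_fun hL (Module.Basis.span hli i)
    simp only [LinearMap.comp_apply, Module.Basis.coord_apply, Module.Basis.repr_self, Finsupp.single_apply] at this
    rw [← this]
    congr 1
    simp [Module.Basis.span_apply]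
  choose L hL using hL
  let e : Fin n → N := fun l => q (Pi.single l 1)
  obtain ⟨b, hb, hint⟩ := exists_common_denominator p (fun jl : σ × Fin n => L jl.1 ((1 : k) ⊗ₜ[R] e jl.2))
  choose a ha using hint
  let Ψ : σ → (N →ₗ[R] R) := fun j => (Fintype.linearCombination R fun l => a (j, l)).comp ι₀
  have hN : ∀ y, y = ∑ l, ι₀ y l • e l := fun y => by
    conv_lhs => rw [← LinearMap.id_apply (R := R) y, ← hqι, LinearMap.comp_apply, pi_eq_sum_univ' (ι₀ y)]
    simp [e, map_sum, map_smul]
  have hΨ : ∀ j y, algebraMap R k (Ψ j y) = algebraMap R k b * L j ((1 : k) ⊗ₜ[R] y) := by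
    intro j y
    conv_rhs => rw [hN y, tmul_sum, map_sum, Finset.mul_sum]
    simp only [Ψ, LinearMap.comp_apply, Fintype.linearCombination_apply, smul_eq_mul, map_sum, map_mul]
    refine Finset.sum_congr rfl fun l _ => ?_
    rw [ha, tmul_smul, ← algebraMap_smul k, map_smul, smul_eq_mul]; ring
  let A : Matrix σ σ R := Matrix.of fun j i => Ψ j (d (x i))
  let g := A.det
  have hg : g ∉ p := by
    intro hg
    have h0 : (A.map (algebraMap R k)).det = 0 := by
      rw [← RingHom.mapMatrix_apply, ← RingHom.map_det]; exact Ideal.algebraMap_residueField_eq_zero.2 hg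
    have hA : A.map (algebraMap R k) = Matrix.diagonal fun _ => algebraMap R k b := by
      ext j i
      simp only [A, Matrix.map_apply, Matrix.of_apply, hΨ, Matrix.diagonal_apply]
      rw [show (1 : k) ⊗ₜ[R] d (x i) = ybar (x i) from rfl, hL]
      by_cases hji : i = j
      · subst hji; simp
      · simp [hji, Ne.symm hji]
    rw [hA, Matrix.det_diagonal, Finset.prod_eq_zero_iff] at h0
    obtain ⟨_, -, h0⟩ := h0
    exact hb (Ideal.algebraMap_residueField_eq_zero.1 h0)
  let Ψ' : σ → (N →ₗ[R] R) := fun i => ∑ j, A.adjugate i j • Ψ j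
  have hΨ' : ∀ i l, Ψ' i (d (x l)) = if i = l then g else 0 := by
    intro i l
    have := congrFun (congrFun (Matrix.adjugate_mul A) i) l
    rw [Matrix.mul_apply] at this
    simp only [Ψ', LinearMap.coe_sum, Finset.sum_apply, LinearMap.smul_apply, smul_eq_mul]
    simp only [A, Matrix.of_apply] at this
    rw [this]
    by_cases hil : i = l <;> simp [hil, g, A]
  let S : N →ₗ[R] M := ∑ i, (Ψ' i).smulRight (x i)
  have hSd : ∀ l, S (d (x l)) = g • x l := by
    intro l
    simp [S, hΨ', ite_smul]
  have hdS : ∀ y, d (S y) = ∑ i, Ψ' i y • d (x i) := fun y => by simp [S]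
  let π : M →ₗ[R] M := g • LinearMap.id - S ∘ₗ d
  have hΨπ : ∀ i m, Ψ' i (d (π m)) = 0 := by
    intro i m
    simp [π, hdS, hΨ', map_sum, mul_comm g]
  have hππ : ∀ m, π (π m) = g • π m := fun m => by
    have : S (d (π m)) = 0 := by simp [S, hΨπ]
    show g • π m - S (d (π m)) = g • π m
    rw [this, sub_zero]
  have hπK : ∀ z ∈ LinearMap.ker d, π z = g • z := fun z hz => by simp [π, LinearMap.mem_ker.1 hz]
  -- the image of `π` dies in the fibre of `M / ker d`
  let T : M →ₗ[R] N := d ∘ₗ π
  have hfib : ∀ m, d.baseChange k ((1 : k) ⊗ₜ[R] π m) = 0 := by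
    intro m
    have hmem : ybar m ∈ Submodule.span k (Set.range (ybar ∘ x)) := hspan ▸ Submodule.subset_span ⟨m, rfl⟩
    have hlin : ∀ z ∈ Submodule.span k (Set.range (ybar ∘ x)),
        ((g • LinearMap.id - d ∘ₗ S).baseChange k) z = 0 := by
      intro z hz
      induction hz using Submodule.span_induction with
      | mem z hz =>
        obtain ⟨l, rfl⟩ := hz
        simp [ybar, hSd]
      | zero => simp
      | add _ _ _ _ h1 h2 => rw [map_add, h1, h2, add_zero]
      | smul c z _ h1 => rw [map_smul, h1, smul_zero]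
    simpa [π, ybar, tmul_sub] using hlin _ hmem
  let Q := (LinearMap.range π).map (LinearMap.ker d).mkQ
  haveI : Module.Finite R Q := Module.Finite.iff_fg.2 (((LinearMap.range_eq_map π) ▸ Module.Finite.fg_top.map π).map _)
  let πQ : (M ⧸ LinearMap.ker d) →ₗ[R] Q := (LinearMap.ker d).liftQ
    (g • (((LinearMap.ker d).mkQ ∘ₗ π).codRestrict Q fun m => ⟨π m, ⟨m, rfl⟩, rfl⟩)) (fun z hz => by
      refine Subtype.ext ?_
      show g • (LinearMap.ker d).mkQ (π z) = 0
      rw [hπK z hz, ← map_smul]
      exact (Submodule.Quotient.mk_eq_zero _).2 (Submodule.smul_mem _ _ (Submodule.smul_mem _ _ hz)))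
  have hQ0 : Subsingleton (k ⊗[R] Q) := by
    have hgen : ∀ (c : k) (y : Q), c ⊗ₜ[R] y = 0 := by
      rintro c ⟨_, _, ⟨m, rfl⟩, rfl⟩
      obtain ⟨z, hz⟩ := h (LinearMap.mem_ker.2 (hfib m))
      have h1 : (πQ ∘ₗ (LinearMap.ker d).mkQ).baseChange k ((1 : k) ⊗ₜ[R] π m) = 0 := by
        rw [← hz, ← LinearMap.comp_apply, ← LinearMap.baseChange_comp]
        have : (πQ ∘ₗ (LinearMap.ker d).mkQ) ∘ₗ (LinearMap.ker d).subtype = 0 := by
          refine LinearMap.ext fun y => ?_
          show πQ ((LinearMap.ker d).mkQ (y : M)) = 0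
          rw [show (LinearMap.ker d).mkQ (y : M) = 0 from (Submodule.Quotient.mk_eq_zero _).2 y.2, map_zero]
        rw [this]; simp
      rw [LinearMap.baseChange_tmul] at h1
      have h2 : (πQ ∘ₗ (LinearMap.ker d).mkQ) (π m) = (g * g) • ⟨(LinearMap.ker d).mkQ (π m), π m, ⟨m, rfl⟩, rfl⟩ := by
        refine Subtype.ext ?_
        show g • (LinearMap.ker d).mkQ (π (π m)) = _
        rw [hππ, map_smul, smul_smul]; rfl
      rw [h2, tmul_smul, smul_tmul'] at h1
      have hu : algebraMap R k (g * g) ≠ 0 := by
        rw [map_mul]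
        exact mul_self_ne_zero.2 fun h => hg (Ideal.algebraMap_residueField_eq_zero.1 h)
      rw [← algebraMap_smul k, smul_eq_mul, mul_one] at h1
      have := congrArg (fun z => (c * (algebraMap R k (g * g))⁻¹) • z) h1
      simp only [smul_tmul', smul_eq_mul, smul_zero] at this
      rwa [mul_assoc, inv_mul_cancel₀ hu, mul_one] at this
    refine ⟨fun z w => ?_⟩
    have : ∀ z : k ⊗[R] Q, z = 0 := fun z => by
      induction z using TensorProduct.induction_on with
      | zero => rfl
      | tmul c y => exact hgen c y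
      | add _ _ h1 h2 => rw [h1, h2, add_zero]
    rw [this z, this w]
  obtain ⟨h₀, hh₀, hkill⟩ : ∃ h₀ ∉ p, ∀ y : Q, h₀ • y = 0 := by
    have hns : (⟨p, inferInstance⟩ : PrimeSpectrum R) ∉ Module.support R Q := by
      rw [Module.mem_support_iff_nontrivial_residueField_tensorProduct, not_nontrivial_iff_subsingleton]
      exact hQ0
    rw [Module.support_eq_zeroLocus, PrimeSpectrum.mem_zeroLocus] at hns
    obtain ⟨h₀, h₁, h₂⟩ := Set.not_subset.1 hns
    exact ⟨h₀, h₂, fun y => Module.mem_annihilator.1 h₁ y⟩
  have hzero : ∀ m, h₀ • d (π m) = 0 := fun m => by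
    have := congrArg Subtype.val (hkill ⟨(LinearMap.ker d).mkQ (π m), π m, ⟨m, rfl⟩, rfl⟩)
    rw [Submodule.coe_smul, ← map_smul, Submodule.coe_zero] at this
    simpa [LinearMap.mem_ker] using (Submodule.Quotient.mk_eq_zero _).1 this
  refine ⟨h₀ * g, Ideal.IsPrime.mul_notMem inferInstance hh₀ hg, ?_⟩
  let s₀ : N →ₗ[R] N := h₀ • (g • LinearMap.id - d ∘ₗ S)
  refine ⟨(LinearMap.range d).liftQ s₀ ?_, LinearMap.ext fun c => ?_⟩
  · rintro _ ⟨m, rfl⟩
    simpa [s₀, π] using hzero m
  · obtain ⟨y, rfl⟩ := Submodule.Quotient.mk_surjective _ c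
    have h0 : (Submodule.Quotient.mk (d (S y)) : N ⧸ LinearMap.range d) = 0 :=
      (Submodule.Quotient.mk_eq_zero _).2 ⟨_, rfl⟩
    simp [s₀, mul_smul, smul_sub, h0]

theorem projective_localizedModule_of_splitsAt [Module.Projective R N] {c : R} (hs : SplitsAt d c) :
    Module.Projective (Localization.Away c) (LocalizedModule (Submonoid.powers c) (N ⧸ LinearMap.range d)) := by
  obtain ⟨s, hs⟩ := hs
  let S := Submonoid.powers c
  haveI : Module.Projective (Localization.Away c) (LocalizedModule S N) :=
    Module.projective_of_isLocalizedModule S (LocalizedModule.mkLinearMap S N)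
  let u : Localization.Away c := IsLocalization.mk' _ 1 (⟨c, Submonoid.mem_powers c⟩ : S)
  refine Module.Projective.of_split (u • LocalizedModule.map S s)
    (LocalizedModule.map S (LinearMap.range d).mkQ) (LinearMap.ext fun z => ?_)
  induction z using LocalizedModule.induction_on with
  | h z t =>
    simp only [LinearMap.comp_apply, LinearMap.smul_apply, LocalizedModule.map_mk, LinearMap.id_apply, map_smul]
    rw [show (LinearMap.range d).mkQ (s z) = c • z from LinearMap.congr_fun hs z, ← LocalizedModule.smul'_mk,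
      ← algebraMap_smul (Localization.Away c) c, smul_smul]
    simp [u]

theorem exists_splitsAt_of_projective [Module.Finite R M] [Module.Finite R N] [Module.Projective R N]
    (f : R) (hf : f ∉ p) (h : Module.Projective (Localization.Away f)
      (LocalizedModule (Submonoid.powers f) (N ⧸ LinearMap.range d))) :
    ∃ c ∉ p, SplitsAt d c := by
  let C := N ⧸ LinearMap.range d
  let S := Submonoid.powers f
  haveI : Module.FinitePresentation R N := Module.finitePresentation_of_projective R N
  haveI : Module.FinitePresentation R C :=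
    Module.finitePresentation_of_surjective (LinearMap.range d).mkQ (Submodule.mkQ_surjective _)
      (by rw [Submodule.ker_mkQ, LinearMap.range_eq_map]; exact Module.Finite.fg_top.map d)
  obtain ⟨σ, hσ⟩ := Module.projective_lifting_property (LocalizedModule.map S (LinearMap.range d).mkQ)
    LinearMap.id (LocalizedModule.map_surjective S _ (Submodule.mkQ_surjective _))
  obtain ⟨s, u, hsu⟩ := Module.FinitePresentation.exists_lift_of_isLocalizedModule S
    (LocalizedModule.mkLinearMap S N) ((σ.restrictScalars R).comp (LocalizedModule.mkLinearMap S C))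
  let diff : C →ₗ[R] C := (LinearMap.range d).mkQ ∘ₗ s - (u : R) • LinearMap.id
  have hdiff : (LocalizedModule.mkLinearMap S C).comp diff = 0 := LinearMap.ext fun z => by
    have h1 := LinearMap.congr_fun hsu z
    have h2 := congrArg (LocalizedModule.map S (LinearMap.range d).mkQ) h1
    have h3 := LinearMap.congr_fun hσ (LocalizedModule.mkLinearMap S C z)
    simp only [LinearMap.comp_apply, LinearMap.restrictScalars_apply, LinearMap.smul_apply,
      Submonoid.smul_def, LinearMap.map_smul_of_tower, LinearMap.id_apply] at h2 h3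
    rw [h3] at h2
    simp only [LocalizedModule.mkLinearMap_apply, LocalizedModule.map_mk] at h2
    simp only [diff, LinearMap.comp_apply, LinearMap.sub_apply, LinearMap.smul_apply, LinearMap.id_apply,
      map_sub, map_smul, LocalizedModule.mkLinearMap_apply, LinearMap.zero_apply]
    rw [h2, sub_self]
  obtain ⟨T, hT⟩ := (Module.Finite.fg_top : (⊤ : Submodule R C).FG)
  classical
  choose w hw using fun z : T => (IsLocalizedModule.eq_zero_iff S (LocalizedModule.mkLinearMap S C)).1
    (LinearMap.congr_fun hdiff z)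
  let W : S := ∏ z, w z
  refine ⟨(W * u : S), ?_, (W : R) • s, ?_⟩
  · obtain ⟨l, hl⟩ := (W * u).2
    intro h
    change f ^ l = ((W * u : S) : R) at hl
    exact hf (Ideal.IsPrime.mem_of_pow_mem inferInstance l (hl ▸ h))
  · refine LinearMap.ext_on (hT : Submodule.span R (T : Set C) = ⊤) fun z hz => ?_
    have h0 : (W : R) • diff z = 0 := by
      rw [show W = (∏ y ∈ Finset.univ.erase ⟨z, hz⟩, w y) * w ⟨z, hz⟩ from
        (Finset.prod_erase_mul _ _ (Finset.mem_univ _)).symm, Submonoid.coe_mul, mul_smul]
      rw [show (w ⟨z, hz⟩ : R) • diff z = 0 from hw ⟨z, hz⟩, smul_zero]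
    simp only [diff, LinearMap.sub_apply, smul_sub, sub_eq_zero, LinearMap.smul_apply, LinearMap.comp_apply] at h0
    simpa [mul_smul] using h0

end Groth.Agent.FibreSplit
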